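import Groth.Agent.BigSiteLib.EtDescSec.Effective

/-!
# Agreement of local sections under a descent datum, along pairs of points
-/

set_option autoImplicit false

universe u

open CategoryTheory CategoryTheory.Limits AlgebraicGeometry Opposite TopologicalSpace

attribute [-instance] CategoryTheory.catToReflQuiver

namespace Groth.Agent.BigSiteLib.DescSec

set_option backward.isDefEq.respectTransparency.types false

/-- a geometric point at a point -/
theorem exists_geom {P : Scheme.{u}} (p : P) : ∃ (Ω : Type u) (_ : Field Ω) (_ : IsSepClosed Ω)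
    (a : Spec (CommRingCat.of Ω) ⟶ P), a (default : Spec (CommRingCat.of Ω)) = p :=
  ⟨SeparableClosure (P.residueField p), inferInstance, inferInstance,
    Spec.map (CommRingCat.ofHom (algebraMap (P.residueField p) (SeparableClosure (P.residueField p)))) ≫
      P.fromSpecResidueField p, (Scheme.Hom.comp_apply _ _ _).trans (Scheme.fromSpecResidueField_apply p _)⟩

/-- geometric points at a pair of points with the same image -/
theorem exists_pair {P Q R : Scheme.{u}} (g : P ⟶ R) (h : Q ⟶ R) (p : P) (q : Q) (e : g p = h q) :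
    ∃ (Ω : Type u) (_ : Field Ω) (_ : IsSepClosed Ω) (a : Spec (CommRingCat.of Ω) ⟶ P)
      (b : Spec (CommRingCat.of Ω) ⟶ Q), a ≫ g = b ≫ h ∧ a (default : Spec (CommRingCat.of Ω)) = p ∧
        b (default : Spec (CommRingCat.of Ω)) = q := by
  obtain ⟨z, hz₁, hz₂⟩ := Scheme.Pullback.exists_preimage_pullback (f := g) (g := h) p q e
  obtain ⟨Ω, _, _, a, ha⟩ := exists_geom z
  refine ⟨Ω, inferInstance, inferInstance, a ≫ pullback.fst g h, a ≫ pullback.snd g h,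
    by simp only [Category.assoc, pullback.condition], ?_, ?_⟩
  · rw [Scheme.Hom.comp_apply, ha, hz₁]
  · rw [Scheme.Hom.comp_apply, ha, hz₂]

/-- a geometric point of an etale scheme as a point of the fibre functor -/
noncomputable abbrev fpt {X : Scheme.{u}} {Ω : Type u} [Field Ω] [IsSepClosed Ω] {U : X.Etale}
    (a : Spec (CommRingCat.of Ω) ⟶ U.left) : (Scheme.pointSmallEtale (a ≫ U.hom)).fiber.obj U :=
  CategoryTheory.Over.homMk a rfl

/-- locally equal sections have equal germs -/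
theorem germ_eq_of_locEq' {S : Scheme.{u}} (G : EtDesc.Sh S) {U : S.Etale} {a a' : G.obj.obj (op U)} {z : U.left}
    {Ω : Type u} [Field Ω] [IsSepClosed Ω] (h : LocEq G.obj a a' z) (ξ : Spec (CommRingCat.of Ω) ⟶ S)
    (t : (Scheme.pointSmallEtale ξ).fiber.obj U)
    (hz : (t.left : Spec (CommRingCat.of Ω) ⟶ U.left).base (default : Spec (CommRingCat.of Ω)) = z) :
    germ G ξ U t a = germ G ξ U t a' := by
  obtain ⟨W, k, ⟨w, hw⟩, e⟩ := h
  obtain ⟨t', ht', -⟩ := EtFound.exists_lift_point k t w (hw.trans hz.symm)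
  rw [← ht']
  exact (germ_map G ξ k t' a).symm.trans ((congrArg (germ G ξ W t') e).trans (germ_map G ξ k t' a'))

variable {X' X : Scheme.{u}} (f : X' ⟶ X) {F' : EtDesc.Sh X'}
  (φ : (EtDesc.pullSh (pullback.fst f f)).obj F' ≅ (EtDesc.pullSh (pullback.snd f f)).obj F')

local notation "pb" => IsPullback.of_hasPullback f f

/-- pairs of points with the same image -/
noncomputable abbrev dObj (U₁ U₂ : X'.Etale) : Scheme.{u} := pullback (U₁.hom ≫ f) (U₂.hom ≫ f)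

/-- to the double product -/
noncomputable abbrev dHom (U₁ U₂ : X'.Etale) : dObj f U₁ U₂ ⟶ pullback f f :=
  pullback.map (U₁.hom ≫ f) (U₂.hom ≫ f) f f U₁.hom U₂.hom (𝟙 X) (Category.comp_id _) (Category.comp_id _)

instance etale_dHom (U₁ U₂ : X'.Etale) : AlgebraicGeometry.Etale (dHom f U₁ U₂) :=
  MorphismProperty.pullback_map U₁.prop U₂.prop rfl rfl

/-- pairs of points, etale over the double product -/
noncomputable abbrev dEt (U₁ U₂ : X'.Etale) : (pullback f f).Etale := Scheme.Etale.mk (dHom f U₁ U₂)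

/-- the first projection -/
noncomputable def d₁ (U₁ U₂ : X'.Etale) : dEt f U₁ U₂ ⟶ (EtCoh.bc (pullback.fst f f)).obj U₁ :=
  MorphismProperty.Over.homMk (pullback.lift (pullback.fst _ _) (dHom f U₁ U₂) (pullback.lift_fst _ _ _).symm)
    (pullback.lift_snd _ _ _) trivial

/-- the second projection -/
noncomputable def d₂ (U₁ U₂ : X'.Etale) : dEt f U₁ U₂ ⟶ (EtCoh.bc (pullback.snd f f)).obj U₂ :=
  MorphismProperty.Over.homMk (pullback.lift (pullback.snd _ _) (dHom f U₁ U₂) (pullback.lift_snd _ _ _).symm)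
    (pullback.lift_snd _ _ _) trivial

/-- the set of pairs of points where two sections correspond -/
def agreeSet {U₁ U₂ : X'.Etale} (σ : ToType (F'.obj.obj (op U₁))) (τ : ToType (F'.obj.obj (op U₂))) :
    Set (dObj f U₁ U₂) :=
  {q | LocEq ((EtDesc.pullSh (pullback.snd f f)).obj F').obj
    (φ.hom.hom.app (op (dEt f U₁ U₂))
      (((EtDesc.pullSh (pullback.fst f f)).obj F').obj.map (d₁ f U₁ U₂).op (up (pullback.fst f f) F' U₁ σ)))
    (((EtDesc.pullSh (pullback.snd f f)).obj F').obj.map (d₂ f U₁ U₂).op (up (pullback.snd f f) F' U₂ τ)) q}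

theorem isOpen_agreeSet {U₁ U₂ : X'.Etale} (σ : ToType (F'.obj.obj (op U₁))) (τ : ToType (F'.obj.obj (op U₂))) :
    IsOpen (agreeSet f φ σ τ) :=
  isOpen_locEq (U := dEt f U₁ U₂) _ _

/-- two sections correspond at a pair of points -/
def Agree {U₁ U₂ : X'.Etale} (σ : ToType (F'.obj.obj (op U₁))) (τ : ToType (F'.obj.obj (op U₂))) {Ω : Type u}
    [Field Ω] (a : Spec (CommRingCat.of Ω) ⟶ U₁.left) (b : Spec (CommRingCat.of Ω) ⟶ U₂.left) : Prop :=
  ∃ h : a ≫ U₁.hom ≫ f = b ≫ U₂.hom ≫ f,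
    pullback.lift a b h (default : Spec (CommRingCat.of Ω)) ∈ agreeSet f φ σ τ

variable {f φ}

theorem agree_iff_mem {U₁ U₂ : X'.Etale} {σ : ToType (F'.obj.obj (op U₁))} {τ : ToType (F'.obj.obj (op U₂))}
    {Ω : Type u} [Field Ω] (c : Spec (CommRingCat.of Ω) ⟶ dObj f U₁ U₂) :
    Agree f φ σ τ (c ≫ pullback.fst _ _) (c ≫ pullback.snd _ _) ↔
      c (default : Spec (CommRingCat.of Ω)) ∈ agreeSet f φ σ τ := by
  have h : (c ≫ pullback.fst (U₁.hom ≫ f) (U₂.hom ≫ f)) ≫ U₁.hom ≫ f =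
      (c ≫ pullback.snd (U₁.hom ≫ f) (U₂.hom ≫ f)) ≫ U₂.hom ≫ f := by
    simp only [Category.assoc, pullback.condition]
  have e : pullback.lift (c ≫ pullback.fst _ _) (c ≫ pullback.snd _ _) h = c :=
    pullback.hom_ext (pullback.lift_fst _ _ _) (pullback.lift_snd _ _ _)
  exact ⟨fun ⟨_, hm⟩ => e ▸ hm, fun hm => ⟨h, e.symm ▸ hm⟩⟩

/-- agreement does not depend on the field -/
theorem Agree.of_ext {U₁ U₂ : X'.Etale} {σ : ToType (F'.obj.obj (op U₁))} {τ : ToType (F'.obj.obj (op U₂))}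
    {Ω Ω' : Type u} [Field Ω] [Field Ω'] (l : Spec (CommRingCat.of Ω') ⟶ Spec (CommRingCat.of Ω))
    {a : Spec (CommRingCat.of Ω) ⟶ U₁.left} {b : Spec (CommRingCat.of Ω) ⟶ U₂.left}
    (h : a ≫ U₁.hom ≫ f = b ≫ U₂.hom ≫ f) (hA : Agree f φ σ τ (l ≫ a) (l ≫ b)) : Agree f φ σ τ a b := by
  obtain ⟨h', hm⟩ := hA
  refine ⟨h, ?_⟩
  have e : pullback.lift (l ≫ a) (l ≫ b) h' = l ≫ pullback.lift a b h :=
    pullback.hom_ext (by rw [Category.assoc, pullback.lift_fst, pullback.lift_fst])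
      (by rw [Category.assoc, pullback.lift_snd, pullback.lift_snd])
  rw [e, Scheme.Hom.comp_apply, Subsingleton.elim (l default) default] at hm
  exact hm

theorem Agree.ext_field {U₁ U₂ : X'.Etale} {σ : ToType (F'.obj.obj (op U₁))} {τ : ToType (F'.obj.obj (op U₂))}
    {Ω Ω' : Type u} [Field Ω] [Field Ω'] (l : Spec (CommRingCat.of Ω') ⟶ Spec (CommRingCat.of Ω))
    {a : Spec (CommRingCat.of Ω) ⟶ U₁.left} {b : Spec (CommRingCat.of Ω) ⟶ U₂.left}
    (hA : Agree f φ σ τ a b) : Agree f φ σ τ (l ≫ a) (l ≫ b) := by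
  obtain ⟨h, hm⟩ := hA
  have h' : (l ≫ a) ≫ U₁.hom ≫ f = (l ≫ b) ≫ U₂.hom ≫ f := by
    rw [Category.assoc, h, ← Category.assoc]
  refine ⟨h', ?_⟩
  have e : pullback.lift (l ≫ a) (l ≫ b) h' = l ≫ pullback.lift a b h :=
    pullback.hom_ext (by rw [Category.assoc, pullback.lift_fst, pullback.lift_fst])
      (by rw [Category.assoc, pullback.lift_snd, pullback.lift_snd])
  rw [e, Scheme.Hom.comp_apply, Subsingleton.elim (l default) default]
  exact hm

section stalks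

variable {Ω : Type u} [Field Ω] [IsSepClosed Ω]

theorem agree_iff {U₁ U₂ : X'.Etale} {σ : ToType (F'.obj.obj (op U₁))} {τ : ToType (F'.obj.obj (op U₂))}
    {a : Spec (CommRingCat.of Ω) ⟶ U₁.left} {b : Spec (CommRingCat.of Ω) ⟶ U₂.left}
    (h : (a ≫ U₁.hom) ≫ f = (b ≫ U₂.hom) ≫ f) :
    Agree f φ σ τ a b ↔
      Phi φ.hom pb (a ≫ U₁.hom) (b ≫ U₂.hom) h (germ F' _ U₁ (fpt a) σ) = germ F' _ U₂ (fpt b) τ := by
  have hab : a ≫ U₁.hom ≫ f = b ≫ U₂.hom ≫ f := by rw [← Category.assoc, h, Category.assoc]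
  let c : Spec (CommRingCat.of Ω) ⟶ dObj f U₁ U₂ := pullback.lift a b hab
  let ζ : Spec (CommRingCat.of Ω) ⟶ pullback f f := c ≫ dHom f U₁ U₂
  let w : (Scheme.pointSmallEtale ζ).fiber.obj (dEt f U₁ U₂) := CategoryTheory.Over.homMk c rfl
  have hζ₁ : ζ ≫ pullback.fst f f = a ≫ U₁.hom := by
    rw [Category.assoc, pullback.lift_fst, ← Category.assoc]
    exact congrArg (· ≫ U₁.hom) (pullback.lift_fst _ _ _)
  have hζ₂ : ζ ≫ pullback.snd f f = b ≫ U₂.hom := by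
    rw [Category.assoc, pullback.lift_snd, ← Category.assoc]
    exact congrArg (· ≫ U₂.hom) (pullback.lift_snd _ _ _)
  have hloc : Agree f φ σ τ a b ↔
      germ ((EtDesc.pullSh (pullback.snd f f)).obj F') ζ (dEt f U₁ U₂) w
        (φ.hom.hom.app (op (dEt f U₁ U₂))
          (((EtDesc.pullSh (pullback.fst f f)).obj F').obj.map (d₁ f U₁ U₂).op (up (pullback.fst f f) F' U₁ σ))) =
      germ ((EtDesc.pullSh (pullback.snd f f)).obj F') ζ (dEt f U₁ U₂) w
        (((EtDesc.pullSh (pullback.snd f f)).obj F').obj.map (d₂ f U₁ U₂).op (up (pullback.snd f f) F' U₂ τ)) :=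
    ⟨fun ⟨_, hm⟩ => germ_eq_of_locEq' _ hm ζ w rfl, fun e => ⟨hab, locEq_of_germ ζ w e _ rfl⟩⟩
  rw [hloc, germ_phi_iff φ.hom ζ (d₁ f U₁ U₂) (d₂ f U₁ U₂) w σ τ, Phi_eq φ.hom pb h ζ hζ₁ hζ₂]
  have e₁ : ((EtFound.bcFiberEquiv (pullback.fst f f) ζ U₁ ((Scheme.pointSmallEtale ζ).fiber.map (d₁ f U₁ U₂) w)).left :
      Spec (CommRingCat.of Ω) ⟶ U₁.left) = a := by
    rw [bcFiberEquiv_left]
    show (c ≫ (d₁ f U₁ U₂).left) ≫ pullback.fst _ _ = a
    refine (Category.assoc _ _ _).trans ((congrArg (c ≫ ·) (pullback.lift_fst _ _ _)).trans ?_)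
    exact pullback.lift_fst _ _ _
  have e₂ : ((EtFound.bcFiberEquiv (pullback.snd f f) ζ U₂ ((Scheme.pointSmallEtale ζ).fiber.map (d₂ f U₁ U₂) w)).left :
      Spec (CommRingCat.of Ω) ⟶ U₂.left) = b := by
    rw [bcFiberEquiv_left]
    show (c ≫ (d₂ f U₁ U₂).left) ≫ pullback.fst _ _ = b
    refine (Category.assoc _ _ _).trans ((congrArg (c ≫ ·) (pullback.lift_fst _ _ _)).trans ?_)
    exact pullback.lift_snd _ _ _
  rw [tr_germ F' hζ₁.symm U₁ (fpt a) _ e₁.symm σ, ← tr_germ F' hζ₂ U₂ _ (fpt b) e₂ τ]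
  constructor
  · intro e
    rw [e]
  · intro e
    have := congrArg (tr F' hζ₂.symm) e
    rwa [tr_tr, tr_tr, tr_rfl, tr_rfl] at this

theorem Phi_congr_left {ξ₁ ξ₁' ξ₂ : Spec (CommRingCat.of Ω) ⟶ X'} (e : ξ₁ = ξ₁') (h : ξ₁ ≫ f = ξ₂ ≫ f)
    (h' : ξ₁' ≫ f = ξ₂ ≫ f) (c : St F' ξ₁) : Phi φ.hom pb ξ₁' ξ₂ h' (tr F' e c) = Phi φ.hom pb ξ₁ ξ₂ h c := by
  subst e
  rfl

theorem Phi_of_eq (hφ : EtDesc.IsCocycle F' φ) {ξ₁ ξ₂ : Spec (CommRingCat.of Ω) ⟶ X'} (e : ξ₁ = ξ₂)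
    (h : ξ₁ ≫ f = ξ₂ ≫ f) (c : St F' ξ₁) : Phi φ.hom pb ξ₁ ξ₂ h c = tr F' e c := by
  subst e
  exact Phi_self f φ hφ ξ₁ c

/-- the datum only relates sections at points with the same image -/
theorem Agree.base {U₁ U₂ : X'.Etale} {σ : ToType (F'.obj.obj (op U₁))} {τ : ToType (F'.obj.obj (op U₂))}
    {a : Spec (CommRingCat.of Ω) ⟶ U₁.left} {b : Spec (CommRingCat.of Ω) ⟶ U₂.left}
    (hA : Agree f φ σ τ a b) : (a ≫ U₁.hom) ≫ f = (b ≫ U₂.hom) ≫ f := by
  obtain ⟨h, -⟩ := hA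
  simpa only [Category.assoc] using h

variable (hφ : EtDesc.IsCocycle F' φ)
include hφ

theorem Agree.refl {U : X'.Etale} (σ : ToType (F'.obj.obj (op U))) (a : Spec (CommRingCat.of Ω) ⟶ U.left) :
    Agree f φ σ σ a a :=
  (agree_iff rfl).2 (Phi_self f φ hφ _ _)

theorem Agree.trans {U₁ U₂ U₃ : X'.Etale} {σ : ToType (F'.obj.obj (op U₁))} {τ : ToType (F'.obj.obj (op U₂))}
    {ρ : ToType (F'.obj.obj (op U₃))} {a : Spec (CommRingCat.of Ω) ⟶ U₁.left}
    {b : Spec (CommRingCat.of Ω) ⟶ U₂.left} {c : Spec (CommRingCat.of Ω) ⟶ U₃.left}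
    (h₁ : Agree f φ σ τ a b) (h₂ : Agree f φ τ ρ b c) : Agree f φ σ ρ a c := by
  rw [agree_iff (h₁.base.trans h₂.base)]
  have e₁ := (agree_iff h₁.base).1 h₁
  have e₂ := (agree_iff h₂.base).1 h₂
  rw [← Phi_trans f φ hφ _ _ _ h₁.base h₂.base, e₁, e₂]

theorem Agree.symm {U₁ U₂ : X'.Etale} {σ : ToType (F'.obj.obj (op U₁))} {τ : ToType (F'.obj.obj (op U₂))}
    {a : Spec (CommRingCat.of Ω) ⟶ U₁.left} {b : Spec (CommRingCat.of Ω) ⟶ U₂.left}
    (h₁ : Agree f φ σ τ a b) : Agree f φ τ σ b a := by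
  rw [agree_iff h₁.base.symm]
  rw [← (agree_iff h₁.base).1 h₁, Phi_trans f φ hφ _ _ _ h₁.base h₁.base.symm]
  exact Phi_self f φ hφ _ _

/-- agreement at points with the same image in the source -/
theorem agree_same {U₁ U₂ : X'.Etale} {σ : ToType (F'.obj.obj (op U₁))} {τ : ToType (F'.obj.obj (op U₂))}
    {a : Spec (CommRingCat.of Ω) ⟶ U₁.left} {b : Spec (CommRingCat.of Ω) ⟶ U₂.left}
    (hab : a ≫ U₁.hom = b ≫ U₂.hom) :
    Agree f φ σ τ a b ↔ tr F' hab (germ F' _ U₁ (fpt a) σ) = germ F' _ U₂ (fpt b) τ := by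
  rw [agree_iff (congrArg (· ≫ f) hab), Phi_of_eq hφ hab]

theorem locEq_iff_agree {U : X'.Etale} {σ τ : ToType (F'.obj.obj (op U))} {a : Spec (CommRingCat.of Ω) ⟶ U.left} :
    Agree f φ σ τ a a ↔ LocEq F'.obj σ τ (a (default : Spec (CommRingCat.of Ω))) := by
  rw [agree_iff rfl, Phi_self f φ hφ]
  exact ⟨fun e => locEq_of_germ _ (fpt a) e _ rfl, fun h => germ_eq_of_locEq' F' h _ (fpt a) rfl⟩

end stalks

section stalks'

variable {Ω : Type u} [Field Ω] [IsSepClosed Ω]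

/-- a section can be transported to any point with the same image -/
theorem exists_agree {U₁ : X'.Etale} (σ : ToType (F'.obj.obj (op U₁))) (a : Spec (CommRingCat.of Ω) ⟶ U₁.left)
    (x : Spec (CommRingCat.of Ω) ⟶ X') (h : (a ≫ U₁.hom) ≫ f = x ≫ f) :
    ∃ (U₂ : X'.Etale) (τ : ToType (F'.obj.obj (op U₂))) (b : Spec (CommRingCat.of Ω) ⟶ U₂.left),
      b ≫ U₂.hom = x ∧ Agree f φ σ τ a b := by
  obtain ⟨U₂, t, τ, hτ⟩ := germ_surjective F' x (Phi φ.hom pb (a ≫ U₁.hom) x h (germ F' _ U₁ (fpt a) σ))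
  obtain ⟨b, hb, htb⟩ : ∃ b : Spec (CommRingCat.of Ω) ⟶ U₂.left, b ≫ U₂.hom = x ∧ t.left = b :=
    ⟨t.left, CategoryTheory.Over.w t, rfl⟩
  refine ⟨U₂, τ, b, hb, ?_⟩
  subst hb
  rw [agree_iff h, ← hτ]
  exact congrArg (fun s => germ F' (b ≫ U₂.hom) U₂ s τ) (fib_ext htb)

theorem agree_map_left {U₁' U₁ U₂ : X'.Etale} (m : U₁' ⟶ U₁) {σ : ToType (F'.obj.obj (op U₁))}
    {τ : ToType (F'.obj.obj (op U₂))} {a : Spec (CommRingCat.of Ω) ⟶ U₁'.left}
    {b : Spec (CommRingCat.of Ω) ⟶ U₂.left} :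
    Agree f φ (F'.obj.map m.op σ) τ a b ↔ Agree f φ σ τ (a ≫ m.left) b := by
  have hm : (a ≫ m.left) ≫ U₁.hom = a ≫ U₁'.hom := by rw [Category.assoc, MorphismProperty.Over.w m]
  have hg : tr F' hm.symm (germ F' _ U₁' (fpt a) (F'.obj.map m.op σ)) = germ F' _ U₁ (fpt (a ≫ m.left)) σ := by
    rw [germ_map]
    exact tr_germ F' hm.symm U₁ _ _ rfl σ
  constructor
  · intro hA
    have h : ((a ≫ m.left) ≫ U₁.hom) ≫ f = (b ≫ U₂.hom) ≫ f := by rw [hm]; exact hA.base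
    rw [agree_iff h, ← (agree_iff hA.base).1 hA, ← hg]
    exact Phi_congr_left _ _ _ _
  · intro hA
    have h : (a ≫ U₁'.hom) ≫ f = (b ≫ U₂.hom) ≫ f := by rw [← hm]; exact hA.base
    rw [agree_iff h, ← (agree_iff hA.base).1 hA, ← hg]
    exact (Phi_congr_left _ _ _ _).symm

end stalks'

end Groth.Agent.BigSiteLib.DescSec
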