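import Groth.Agent.BigSiteLib.EtDescSec.Agree

/-!
# Effective descent along universally open surjections with enough connected stages
-/

set_option autoImplicit false

universe u

open CategoryTheory CategoryTheory.Limits AlgebraicGeometry Opposite TopologicalSpace

attribute [-instance] CategoryTheory.catToReflQuiver

namespace Groth.Agent.BigSiteLib.DescSec

set_option backward.isDefEq.respectTransparency.types false

variable {X' X : Scheme.{u}} {f : X' ⟶ X} {F' : EtDesc.Sh X'}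
  {φ : (EtDesc.pullSh (pullback.fst f f)).obj F' ≅ (EtDesc.pullSh (pullback.snd f f)).obj F'}

local notation "pb" => IsPullback.of_hasPullback f f
local notation "Gl" => glueSh f (pullback.fst f f) (pullback.snd f f) (pullback.fst f f ≫ f) rfl pullback.condition.symm φ.hom
local notation "ψψ" => gluePsi f (pullback.fst f f) (pullback.snd f f) (pullback.fst f f ≫ f) rfl pullback.condition.symm φ.hom

theorem Phi_congr {Ω : Type u} [Field Ω] [IsSepClosed Ω] {ξ₁ ξ₁' ξ₂ ξ₂' : Spec (CommRingCat.of Ω) ⟶ X'} (e₁ : ξ₁ = ξ₁')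
    (e₂ : ξ₂ = ξ₂') (h : ξ₁ ≫ f = ξ₂ ≫ f) (h' : ξ₁' ≫ f = ξ₂' ≫ f) (c : St F' ξ₁) :
    Phi φ.hom pb ξ₁' ξ₂' h' (tr F' e₁ c) = tr F' e₂ (Phi φ.hom pb ξ₁ ξ₂ h c) := by
  subst e₁ e₂
  rfl

/-- the inclusion of compatible sections is injective -/
theorem injective_app_of_mono' {G H : EtDesc.Sh X} (ι : G ⟶ H) (V : X.Etale) {x y : ToType (G.obj.obj (op V))}
    [Mono ι] (h : ι.hom.app (op V) x = ι.hom.app (op V) y) : x = y :=
  injective_app_of_mono ι V h

/-- compatible sections correspond at all pairs of points over the same point -/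
theorem agree_of_compat {V : X.Etale} (x : ToType ((Gl).obj.obj (op V))) {Ω : Type u} [Field Ω] [IsSepClosed Ω]
    (a b : Spec (CommRingCat.of Ω) ⟶ ((EtCoh.bc f).obj V).left) (e : a ≫ pullback.fst V.hom f = b ≫ pullback.fst V.hom f) :
    Agree f φ ((glueι f (pullback.fst f f) (pullback.snd f f) (pullback.fst f f ≫ f) rfl pullback.condition.symm φ.hom).hom.app (op V) x)
      ((glueι f (pullback.fst f f) (pullback.snd f f) (pullback.fst f f ≫ f) rfl pullback.condition.symm φ.hom).hom.app (op V) x) a b := by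
  let η : Spec (CommRingCat.of Ω) ⟶ X := (a ≫ pullback.fst V.hom f) ≫ V.hom
  let v : (Scheme.pointSmallEtale η).fiber.obj V := fpt (a ≫ pullback.fst V.hom f)
  have h₁ : (a ≫ pullback.snd V.hom f) ≫ f = η :=
    (Category.assoc _ _ _).trans ((congrArg (a ≫ ·) pullback.condition.symm).trans (Category.assoc _ _ _).symm)
  have h₂ : (b ≫ pullback.snd V.hom f) ≫ f = η :=
    ((Category.assoc _ _ _).trans ((congrArg (b ≫ ·) pullback.condition.symm).trans (Category.assoc _ _ _).symm)).trans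
      (congrArg (· ≫ V.hom) e.symm)
  have ha : ((EtFound.liftPt f h₁ v).left : Spec (CommRingCat.of Ω) ⟶ ((EtCoh.bc f).obj V).left) = a :=
    pullback.hom_ext (EtFound.liftPt_fst f h₁ v) (pullback.lift_snd _ _ _)
  have hb : ((EtFound.liftPt f h₂ v).left : Spec (CommRingCat.of Ω) ⟶ ((EtCoh.bc f).obj V).left) = b :=
    pullback.hom_ext ((EtFound.liftPt_fst f h₂ v).trans e) (pullback.lift_snd _ _ _)
  let ζ := (pb).lift (a ≫ pullback.snd V.hom f) (b ≫ pullback.snd V.hom f) (h₁.trans h₂.symm)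
  have hζ : ζ ≫ pullback.fst f f ≫ f = η := by rw [← Category.assoc, (pb).lift_fst, h₁]
  have key := (germ_sides_iff f (pullback.fst f f) (pullback.snd f f) _ rfl pullback.condition.symm φ.hom pb h₁ h₂
    ζ ((pb).lift_fst _ _ _) ((pb).lift_snd _ _ _) hζ v _).1 (congrArg _ x.2)
  rw [fib_ext (t' := fpt a) ha, fib_ext (t' := fpt b) hb] at key
  exact (agree_iff (h₁.trans h₂.symm)).2 key

/-- sections corresponding at all pairs of points over the same point are compatible -/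
theorem compat_of_agree {V : X.Etale} (s : ToType (F'.obj.obj (op ((EtCoh.bc f).obj V))))
    (hs : ∀ (Ω : Type u) [Field Ω] [IsSepClosed Ω] (a b : Spec (CommRingCat.of Ω) ⟶ ((EtCoh.bc f).obj V).left),
      a ≫ pullback.fst V.hom f = b ≫ pullback.fst V.hom f → Agree f φ s s a b) :
    lhs f (pullback.fst f f) (pullback.snd f f) (pullback.fst f f ≫ f) rfl φ.hom V s =
      side (pullback.fst f f ≫ f) (pullback.snd f f) f pullback.condition.symm F' V s := by
  refine eq_of_locEq _ fun z => ?_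
  obtain ⟨Ω, _, _, c, hc⟩ := exists_geom z
  let η : Spec (CommRingCat.of Ω) ⟶ X := (c ≫ pullback.fst V.hom (pullback.fst f f ≫ f)) ≫ V.hom
  let v : (Scheme.pointSmallEtale η).fiber.obj V := fpt (c ≫ pullback.fst V.hom (pullback.fst f f ≫ f))
  let ζ : Spec (CommRingCat.of Ω) ⟶ pullback f f := c ≫ pullback.snd V.hom (pullback.fst f f ≫ f)
  have hζ : ζ ≫ pullback.fst f f ≫ f = η :=
    (Category.assoc _ _ _).trans ((congrArg (c ≫ ·) pullback.condition.symm).trans (Category.assoc _ _ _).symm)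
  have h₁ : (ζ ≫ pullback.fst f f) ≫ f = η := by rw [Category.assoc]; exact hζ
  have h₂ : (ζ ≫ pullback.snd f f) ≫ f = η := by rw [Category.assoc, ← pullback.condition]; exact hζ
  have hz : ((EtFound.liftPt (pullback.fst f f ≫ f) hζ v).left :
      Spec (CommRingCat.of Ω) ⟶ ((EtCoh.bc (pullback.fst f f ≫ f)).obj V).left) = c :=
    pullback.hom_ext (EtFound.liftPt_fst _ hζ v) (pullback.lift_snd _ _ _)
  refine locEq_of_germ ζ (EtFound.liftPt _ hζ v) ?_ z ((congrArg (fun k : Spec (CommRingCat.of Ω) ⟶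
    ((EtCoh.bc (pullback.fst f f ≫ f)).obj V).left => k.base default) hz).trans hc)
  refine (germ_sides_iff f (pullback.fst f f) (pullback.snd f f) _ rfl pullback.condition.symm φ.hom pb h₁ h₂
    ζ rfl rfl hζ v _).2 ?_
  let a : Spec (CommRingCat.of Ω) ⟶ ((EtCoh.bc f).obj V).left := (EtFound.liftPt f h₁ v).left
  let b : Spec (CommRingCat.of Ω) ⟶ ((EtCoh.bc f).obj V).left := (EtFound.liftPt f h₂ v).left
  have hA := hs Ω a b ((EtFound.liftPt_fst f h₁ v).trans (EtFound.liftPt_fst f h₂ v).symm)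
  have ha : a ≫ pullback.snd V.hom f = ζ ≫ pullback.fst f f := pullback.lift_snd _ _ _
  have hb : b ≫ pullback.snd V.hom f = ζ ≫ pullback.snd f f := pullback.lift_snd _ _ _
  have hab : (a ≫ pullback.snd V.hom f) ≫ f = (b ≫ pullback.snd V.hom f) ≫ f := by
    rw [ha, hb]; exact h₁.trans h₂.symm
  have e := (agree_iff hab).1 hA
  have e' := congrArg (tr F' hb) e
  refine Eq.trans ?_ (e'.trans (tr_germ F' hb _ (fpt b) (EtFound.liftPt f h₂ v) rfl s))
  refine Eq.trans ?_ (Phi_congr ha hb hab (h₁.trans h₂.symm) _)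
  exact congrArg (Phi φ.hom pb _ _ _) (tr_germ F' ha _ (fpt a) (EtFound.liftPt f h₁ v) rfl s).symm

variable (f φ)

/-- every local section has, after transport along the datum, a stage, universally open over an etale scheme of the
base, on which it is compatible -/
def HasStages : Prop :=
  ∀ (Ω : Type u) [Field Ω] [IsAlgClosed Ω] (W₀ : X'.Etale) (t₀ : ToType (F'.obj.obj (op W₀)))
    (w₀ : Spec (CommRingCat.of Ω) ⟶ W₀.left),
    ∃ (W₁ : X'.Etale) (t : ToType (F'.obj.obj (op W₁))) (Wc : Scheme.{u}) (j : Wc ⟶ W₁.left) (V : X.Etale)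
      (β : Wc ⟶ V.left) (w' : Spec (CommRingCat.of Ω) ⟶ Wc),
      β ≫ V.hom = j ≫ W₁.hom ≫ f ∧ Agree f φ t₀ t w₀ (w' ≫ j) ∧ UniversallyOpen β ∧
        ∀ (Ω' : Type u) [Field Ω'] [IsSepClosed Ω'] (a b : Spec (CommRingCat.of Ω') ⟶ Wc),
          a ≫ β = b ≫ β → Agree f φ t t (a ≫ j) (b ≫ j)

variable {f φ}

section main

variable (hφ : EtDesc.IsCocycle F' φ)
include hφ

theorem agree_map_right {Ω : Type u} [Field Ω] [IsSepClosed Ω] {U₁ U₂' U₂ : X'.Etale} (m : U₂' ⟶ U₂)
    {σ : ToType (F'.obj.obj (op U₁))} {τ : ToType (F'.obj.obj (op U₂))} {a : Spec (CommRingCat.of Ω) ⟶ U₁.left}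
    {b : Spec (CommRingCat.of Ω) ⟶ U₂'.left} :
    Agree f φ σ (F'.obj.map m.op τ) a b ↔ Agree f φ σ τ a (b ≫ m.left) :=
  ⟨fun h => ((agree_map_left m).1 (h.symm hφ)).symm hφ, fun h => ((agree_map_left m).2 (h.symm hφ)).symm hφ⟩

section glue

variable {W₁ : X'.Etale} {V : X.Etale} {Wc : Scheme.{u}} (t : ToType (F'.obj.obj (op W₁))) (j : Wc ⟶ W₁.left)
  (β : Wc ⟶ V.left) (hβV : β ≫ V.hom = j ≫ W₁.hom ≫ f) [UniversallyOpen β]
  (hcst : ∀ (Ω : Type u) [Field Ω] [IsSepClosed Ω] (a b : Spec (CommRingCat.of Ω) ⟶ Wc),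
    a ≫ β = b ≫ β → Agree f φ t t (a ≫ j) (b ≫ j))
  (N : V.left.Opens) (hN : ∀ v ∈ N, ∃ z, β z = v)

/-- to the base of the image -/
noncomputable abbrev toBase : ((EtCoh.bc f).obj (EtFound.restrictEtale V N)).left ⟶ V.left :=
  pullback.fst (EtFound.restrictEtale V N).hom f ≫ N.ι

include hβV hcst hN in
theorem exists_local_section (p : ((EtCoh.bc f).obj (EtFound.restrictEtale V N)).left) :
    ∃ (U : X'.Etale) (π : U ⟶ (EtCoh.bc f).obj (EtFound.restrictEtale V N)) (σ : ToType (F'.obj.obj (op U)))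
      (u₀ : U.left), π.left u₀ = p ∧
        ∀ (Ω : Type u) [Field Ω] [IsSepClosed Ω] (a : Spec (CommRingCat.of Ω) ⟶ Wc)
          (o : Spec (CommRingCat.of Ω) ⟶ U.left), a ≫ β = o ≫ π.left ≫ toBase N → Agree f φ t σ (a ≫ j) o := by
  let P := (EtCoh.bc f).obj (EtFound.restrictEtale V N)
  obtain ⟨z, hz⟩ := hN _ (pullback.fst (EtFound.restrictEtale V N).hom f p).2
  obtain ⟨Ω, _, _, a, x, hax, -, hxp⟩ := exists_pair β (toBase (f := f) N) z p
    (hz.trans (Scheme.Hom.comp_apply (pullback.fst (EtFound.restrictEtale V N).hom f) N.ι p).symm)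
  have hbase : toBase (f := f) N ≫ V.hom = pullback.snd (EtFound.restrictEtale V N).hom f ≫ f := by
    rw [← pullback.condition, Category.assoc]
    rfl
  obtain ⟨U, σ, b, hb, hAb⟩ := exists_agree (φ := φ) t (a ≫ j) (x ≫ P.hom) (by
    rw [Category.assoc, Category.assoc, ← hβV, ← Category.assoc, hax, Category.assoc, hbase]
    exact (Category.assoc _ _ _).symm)
  haveI : AlgebraicGeometry.Etale U.hom := U.prop
  haveI : AlgebraicGeometry.Etale P.hom := P.prop
  let U' : X'.Etale := Scheme.Etale.mk (pullback.fst U.hom P.hom ≫ U.hom)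
  let π : U' ⟶ P := MorphismProperty.Over.homMk (pullback.snd U.hom P.hom) pullback.condition.symm trivial
  let m : U' ⟶ U := MorphismProperty.Over.homMk (pullback.fst U.hom P.hom) rfl trivial
  let σ' : ToType (F'.obj.obj (op U')) := F'.obj.map m.op σ
  let o₀ : Spec (CommRingCat.of Ω) ⟶ U'.left := pullback.lift b x hb
  have hkey : (π.left ≫ toBase (f := f) N) ≫ V.hom = U'.hom ≫ f :=
    (Category.assoc _ _ _).trans ((congrArg (π.left ≫ ·) hbase).trans
      ((Category.assoc _ _ _).symm.trans (congrArg (· ≫ f) (MorphismProperty.Over.w π))))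
  let R := pullback β (π.left ≫ toBase (f := f) N)
  have hR : (pullback.fst β (π.left ≫ toBase (f := f) N) ≫ j) ≫ W₁.hom ≫ f =
      pullback.snd β (π.left ≫ toBase (f := f) N) ≫ U'.hom ≫ f :=
    ((Category.assoc _ _ _).trans (congrArg (pullback.fst β (π.left ≫ toBase (f := f) N) ≫ ·) hβV.symm)).trans
      ((Category.assoc _ _ _).symm.trans ((congrArg (· ≫ V.hom) pullback.condition).trans
        ((Category.assoc _ _ _).trans (congrArg (pullback.snd β (π.left ≫ toBase (f := f) N) ≫ ·) hkey))))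
  let r : R ⟶ dObj f W₁ U' := pullback.lift (pullback.fst _ _ ≫ j) (pullback.snd _ _) hR
  let E : Set R := r ⁻¹' agreeSet f φ t σ'
  let O : U'.left.Opens := ⟨pullback.snd β (π.left ≫ toBase (f := f) N) '' E,
    (Scheme.Hom.isOpenMap (pullback.snd β (π.left ≫ toBase (f := f) N))) _
      ((isOpen_agreeSet f φ t σ').preimage r.continuous)⟩
  have ho₀ : o₀ (default : Spec (CommRingCat.of Ω)) ∈ O := by
    have hm : o₀ ≫ π.left = x := pullback.lift_snd _ _ _
    let c : Spec (CommRingCat.of Ω) ⟶ R := pullback.lift a o₀ (by rw [← Category.assoc, hm, hax])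
    have hA : Agree f φ t σ' ((c ≫ r) ≫ pullback.fst _ _) ((c ≫ r) ≫ pullback.snd _ _) := by
      rw [Category.assoc, pullback.lift_fst, ← Category.assoc, Category.assoc c r, pullback.lift_snd,
        pullback.lift_fst, pullback.lift_snd, agree_map_right hφ m]
      rw [show o₀ ≫ m.left = b from pullback.lift_fst _ _ _]
      exact hAb
    refine ⟨c default, ?_, ?_⟩
    · have := (agree_iff_mem (c ≫ r)).1 hA
      rwa [Scheme.Hom.comp_apply] at this
    · rw [← Scheme.Hom.comp_apply, pullback.lift_snd]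
  refine ⟨EtFound.restrictEtale U' O, EtFound.restrictEtaleHom U' O ≫ π,
    F'.obj.map (EtFound.restrictEtaleHom U' O).op σ', ⟨_, ho₀⟩, ?_, fun Ω' _ _ a' o ho => ?_⟩
  · show (O.ι ≫ pullback.snd U.hom P.hom) (⟨_, ho₀⟩ : O.toScheme) = p
    rw [Scheme.Hom.comp_apply]
    exact (Scheme.Hom.comp_apply o₀ π.left default).symm.trans
      ((congrArg (fun k : Spec (CommRingCat.of Ω) ⟶ _ => k default) (pullback.lift_snd b x hb)).trans hxp)
  · rw [agree_map_right hφ (EtFound.restrictEtaleHom U' O)]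
    let o' : Spec (CommRingCat.of Ω') ⟶ U'.left := o ≫ O.ι
    have ho' : a' ≫ β = o' ≫ π.left ≫ toBase (f := f) N := by
      rw [ho]
      show o ≫ (O.ι ≫ π.left) ≫ toBase (f := f) N = _
      simp only [o', Category.assoc]
    obtain ⟨r₀, hr₀, hr₀'⟩ : o' default ∈ O := by
      show (o ≫ O.ι) default ∈ O
      rw [Scheme.Hom.comp_apply]
      exact (o default).2
    obtain ⟨Ω'', _, _, c, l, hcl, hc, -⟩ := exists_pair (pullback.snd β (π.left ≫ toBase (f := f) N)) o' r₀ default hr₀'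
    have h₁ : Agree f φ t σ' ((c ≫ pullback.fst _ _) ≫ j) (l ≫ o') := by
      have h := (agree_iff_mem (c ≫ r)).2 (by rw [Scheme.Hom.comp_apply, hc]; exact hr₀)
      rwa [Category.assoc, pullback.lift_fst, ← Category.assoc, Category.assoc c r, pullback.lift_snd, hcl] at h
    have h₂ : Agree f φ t t ((l ≫ a') ≫ j) ((c ≫ pullback.fst _ _) ≫ j) := hcst Ω'' _ _
      ((Category.assoc _ _ _).trans ((congrArg (l ≫ ·) ho').trans ((Category.assoc _ _ _).symm.trans
        ((congrArg (· ≫ (π.left ≫ toBase (f := f) N)) hcl.symm).trans ((Category.assoc _ _ _).trans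
          ((congrArg (c ≫ ·) pullback.condition.symm).trans (Category.assoc _ _ _).symm))))))
    refine Agree.of_ext l ?_ (Category.assoc l a' j ▸ h₂.trans hφ h₁)
    exact ((Category.assoc _ _ _).trans (congrArg (a' ≫ ·) hβV.symm)).trans ((Category.assoc _ _ _).symm.trans ((congrArg (· ≫ V.hom) ho').trans
      ((Category.assoc _ _ _).trans (congrArg (o' ≫ ·) hkey))))

include hβV hcst hN in
theorem exists_glued : ∃ s : ToType (F'.obj.obj (op ((EtCoh.bc f).obj (EtFound.restrictEtale V N)))),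
    ∀ (Ω : Type u) [Field Ω] [IsSepClosed Ω] (a : Spec (CommRingCat.of Ω) ⟶ Wc)
      (x : Spec (CommRingCat.of Ω) ⟶ ((EtCoh.bc f).obj (EtFound.restrictEtale V N)).left),
      a ≫ β = x ≫ toBase N → Agree f φ t s (a ≫ j) x := by
  let P := (EtCoh.bc f).obj (EtFound.restrictEtale V N)
  choose U π σ u₀ hu hσ using exists_local_section hφ t j β hβV hcst N hN
  have hcomp : ∀ i k (Y : X'.Etale) (p : Y ⟶ U i) (q : Y ⟶ U k), p ≫ π i = q ≫ π k →
      F'.obj.map p.op (σ i) = F'.obj.map q.op (σ k) := fun i k Y p q e => by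
    refine eq_of_locEq F' fun y => ?_
    have hy : (p.left ≫ (π i).left ≫ toBase (f := f) N) y ∈ N := by
      rw [Scheme.Hom.comp_apply, Scheme.Hom.comp_apply, Scheme.Hom.comp_apply]
      exact (pullback.fst (EtFound.restrictEtale V N).hom f ((π i).left (p.left y))).2
    obtain ⟨z, hz⟩ := hN _ hy
    obtain ⟨Ω, _, _, a, c, hac, -, hc⟩ := exists_pair β (p.left ≫ (π i).left ≫ toBase (f := f) N) z y hz
    have e' : p.left ≫ (π i).left = q.left ≫ (π k).left := congrArg (fun k : Y ⟶ P => k.left) e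
    have h₁ : Agree f φ t (F'.obj.map p.op (σ i)) (a ≫ j) c :=
      (agree_map_right hφ p).2 (hσ i Ω a (c ≫ p.left) (by rw [hac, Category.assoc]))
    have h₂ : Agree f φ t (F'.obj.map q.op (σ k)) (a ≫ j) c :=
      (agree_map_right hφ q).2 (hσ k Ω a (c ≫ q.left) (by
        rw [hac, Category.assoc, ← Category.assoc p.left, e', Category.assoc]))
    exact hc ▸ (locEq_iff_agree hφ).1 ((h₁.symm hφ).trans hφ h₂)
  have hcov : Sieve.generate (Presieve.ofArrows U π) ∈ X'.smallEtaleTopology P := by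
    rw [EtFound.mem_topology_iff]
    exact fun x => ⟨U x, π x, u₀ x, ⟨U x, 𝟙 _, π x, ⟨x⟩, Category.id_comp _⟩, hu x⟩
  obtain ⟨s, hs, -⟩ := (Presieve.isSheafFor_arrows_iff _ _).1 ((Presieve.isSheafFor_iff_generate _).2
    (((isSheaf_iff_isSheaf_of_type _ _).1 F'.property) _ hcov)) σ hcomp
  refine ⟨s, fun Ω _ _ a x hax => ?_⟩
  obtain ⟨o, ho, -⟩ := EtFound.exists_lift_point (π (x default)) (fpt x) (u₀ (x default)) (hu _)
  have hox : (o.left : Spec (CommRingCat.of Ω) ⟶ (U (x default)).left) ≫ (π (x default)).left = x :=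
    congrArg (fun k => k.left) ho
  have h := hσ (x default) Ω a o.left
    (hax.trans ((congrArg (· ≫ toBase (f := f) N) hox.symm).trans (Category.assoc _ _ _)))
  rw [← hs (x default)] at h
  have h' := (agree_map_right hφ _).1 h
  exact hox ▸ h'

end glue

theorem psi_stalk_surjective_open [UniversallyOpen f] (hst : HasStages f φ) {Ω : Type u} [Field Ω] [IsAlgClosed Ω]
    (ξ₀ : Spec (CommRingCat.of Ω) ⟶ X') :
    Function.Surjective ((Scheme.pointSmallEtale ξ₀).presheafFiber.map (ψψ).hom) := by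
  intro c₀
  obtain ⟨W₀, tw, t₀, rfl⟩ := germ_surjective F' ξ₀ c₀
  obtain ⟨w, hw, htw⟩ : ∃ w : Spec (CommRingCat.of Ω) ⟶ W₀.left, w ≫ W₀.hom = ξ₀ ∧ tw.left = w :=
    ⟨tw.left, CategoryTheory.Over.w tw, rfl⟩
  subst hw
  obtain rfl : tw = fpt w := fib_ext htw
  obtain ⟨W₁, t, Wc, j, V, β, w', hβV, hw', hβo, hcst⟩ := hst Ω W₀ t₀ w
  haveI := hβo
  let N : V.left.Opens := ⟨Set.range β, (Scheme.Hom.isOpenMap β).isOpen_range⟩
  obtain ⟨s, hs⟩ := exists_glued hφ t j β hβV hcst N fun v hv => hv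
  let V' := EtFound.restrictEtale V N
  have hcompat := compat_of_agree (φ := φ) s fun Ω' _ _ x₁ x₂ e => by
    have hmem : (x₁ ≫ toBase (f := f) N) default ∈ N := by
      rw [Scheme.Hom.comp_apply, Scheme.Hom.comp_apply]
      exact (pullback.fst V'.hom f (x₁ default)).2
    obtain ⟨z, hz⟩ := hmem
    obtain ⟨Ω'', _, _, a, l, hal, -, -⟩ := exists_pair β (x₁ ≫ toBase (f := f) N) z default hz
    have h₁ : Agree f φ t s (a ≫ j) (l ≫ x₁) := hs Ω'' a _ (by rw [hal, Category.assoc])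
    have h₂ : Agree f φ t s (a ≫ j) (l ≫ x₂) := hs Ω'' a _ (by
      rw [hal, Category.assoc]
      simp only [toBase, ← Category.assoc, e])
    refine Agree.of_ext l ?_ ((h₁.symm hφ).trans hφ h₂)
    show x₁ ≫ pullback.snd V'.hom f ≫ f = x₂ ≫ pullback.snd V'.hom f ≫ f
    refine (congrArg (x₁ ≫ ·) pullback.condition.symm).trans (Eq.trans ?_ (congrArg (x₂ ≫ ·) pullback.condition))
    exact (Category.assoc _ _ _).symm.trans ((congrArg (· ≫ V'.hom) e).trans (Category.assoc _ _ _))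
  let η := (w ≫ W₀.hom) ≫ f
  let v₀ : Spec (CommRingCat.of Ω) ⟶ N := IsOpenImmersion.lift N.ι (w' ≫ β) (by
    rintro _ ⟨q, rfl⟩
    rw [Scheme.Opens.range_ι, Scheme.Hom.comp_apply]
    exact ⟨_, rfl⟩)
  have hv₀ : v₀ ≫ N.ι = w' ≫ β := IsOpenImmersion.lift_fac _ _ _
  let v : (Scheme.pointSmallEtale η).fiber.obj V' := CategoryTheory.Over.homMk v₀ (by
    show v₀ ≫ N.ι ≫ V.hom = (w ≫ W₀.hom) ≫ f
    rw [← Category.assoc, hv₀, Category.assoc, hβV]
    exact (Category.assoc _ _ _).symm.trans ((Category.assoc _ _ _).symm.trans hw'.base.symm))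
  let xx : ToType ((Gl).obj.obj (op V')) := ⟨s, hcompat⟩
  refine ⟨germ ((EtDesc.pullSh f).obj Gl) (w ≫ W₀.hom) ((EtCoh.bc f).obj V') (EtFound.liftPt f (η := η) rfl v)
    (up f Gl V' xx), ?_⟩
  rw [psi_germ]
  let x₀ : Spec (CommRingCat.of Ω) ⟶ ((EtCoh.bc f).obj V').left := (EtFound.liftPt f (η := η) rfl v).left
  have hA : Agree f φ t s (w' ≫ j) x₀ := hs Ω w' x₀ (by
    rw [← hv₀, ← Category.assoc]
    exact congrArg (· ≫ N.ι) (EtFound.liftPt_fst f (η := η) rfl v).symm)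
  replace hA := hw'.trans hφ hA
  have hab : w ≫ W₀.hom = x₀ ≫ ((EtCoh.bc f).obj V').hom := (pullback.lift_snd _ _ _).symm
  refine Eq.trans (?_ : _ = tr F' hab.symm (germ F' _ _ (fpt x₀) s)) ?_
  · exact (tr_germ F' hab.symm _ (fpt x₀) _ rfl s).symm
  · rw [← (agree_same hφ hab).1 hA, tr_tr, tr_rfl]

theorem psi_stalk_injective_open [UniversallyOpen f] {Ω : Type u} [Field Ω] [IsAlgClosed Ω]
    (ξ₀ : Spec (CommRingCat.of Ω) ⟶ X') :
    Function.Injective ((Scheme.pointSmallEtale ξ₀).presheafFiber.map (ψψ).hom) := by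
  intro e₁ e₂ he
  let η := ξ₀ ≫ f
  obtain ⟨V₁, v₁, x₁, h₁, k₁⟩ := exists_up_germ f (η := η) rfl Gl e₁
  obtain ⟨V₂, v₂, x₂, h₂, k₂⟩ := exists_up_germ f (η := η) rfl Gl e₂
  rw [h₁, h₂, psi_germ, psi_germ] at he
  refine (stI f ξ₀ Gl).injective ?_
  rw [tr_rfl] at k₁ k₂
  rw [k₁, k₂]
  obtain ⟨⟨V, v⟩, ⟨α₁, hα₁⟩, ⟨α₂, hα₂⟩, -⟩ := IsCofilteredOrEmpty.cone_objs
    ((Scheme.pointSmallEtale η).fiber.elementsMk V₁ v₁) ((Scheme.pointSmallEtale η).fiber.elementsMk V₂ v₂)
  obtain ⟨α₁', rfl⟩ : ∃ α : V ⟶ V₁, (Scheme.pointSmallEtale η).fiber.map α v = v₁ := ⟨α₁, hα₁⟩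
  obtain ⟨α₂', rfl⟩ : ∃ α : V ⟶ V₂, (Scheme.pointSmallEtale η).fiber.map α v = v₂ := ⟨α₂, hα₂⟩
  let ι := glueι f (pullback.fst f f) (pullback.snd f f) (pullback.fst f f ≫ f) rfl pullback.condition.symm φ.hom
  let y₁ : ToType ((Gl).obj.obj (op V)) := (Gl).obj.map α₁'.op x₁
  let y₂ : ToType ((Gl).obj.obj (op V)) := (Gl).obj.map α₂'.op x₂
  let z₁ : ToType (F'.obj.obj (op ((EtCoh.bc f).obj V))) := ι.hom.app (op V) y₁
  let z₂ : ToType (F'.obj.obj (op ((EtCoh.bc f).obj V))) := ι.hom.app (op V) y₂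
  let a₀ := EtFound.liftPt f (η := η) (ξ := ξ₀) rfl v
  have he' : germ F' ξ₀ _ a₀ z₁ = germ F' ξ₀ _ a₀ z₂ := by
    rw [← EtFound.liftPt_map f rfl α₁' v, ← EtFound.liftPt_map f rfl α₂' v, ← germ_map, ← germ_map] at he
    exact he
  have hz₀ : LocEq F'.obj z₁ z₂ ((a₀.left : Spec (CommRingCat.of Ω) ⟶ ((EtCoh.bc f).obj V).left) (default : Spec (CommRingCat.of Ω))) :=
    locEq_of_germ ξ₀ a₀ he' _ rfl
  haveI : UniversallyOpen (pullback.fst V.hom f) := inferInstance
  let N : V.left.Opens := ⟨pullback.fst V.hom f '' {z | LocEq F'.obj z₁ z₂ z},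
    (Scheme.Hom.isOpenMap (pullback.fst V.hom f)) _ (isOpen_locEq z₁ z₂)⟩
  have hvN : (v.left : Spec (CommRingCat.of Ω) ⟶ V.left).base (default : Spec (CommRingCat.of Ω)) ∈ N :=
    ⟨_, hz₀, (Scheme.Hom.comp_apply _ _ _).symm.trans
      (congrArg (fun k : Spec (CommRingCat.of Ω) ⟶ V.left => k default) (EtFound.liftPt_fst f rfl v))⟩
  let V' := EtFound.restrictEtale V N
  let j := EtFound.restrictEtaleHom V N
  obtain ⟨v', hv', -⟩ := EtFound.exists_lift_point j v ⟨_, hvN⟩ rfl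
  haveI : Mono ι := (sheafToPresheaf _ _).mono_of_mono_map (inferInstanceAs (Mono (Subfunctor.ι _)))
  have key : (Gl).obj.map j.op y₁ = (Gl).obj.map j.op y₂ := by
    refine injective_app_of_mono' ι V' ?_
    show F'.obj.map ((EtCoh.bc f).map j).op z₁ = F'.obj.map ((EtCoh.bc f).map j).op z₂
    refine eq_of_locEq F' fun p => LocEq.map _ ?_
    let q := ((EtCoh.bc f).map j).left p
    have hq : pullback.fst V.hom f q = j.left (pullback.fst V'.hom f p) :=
      ((Scheme.Hom.comp_apply _ _ _).symm.trans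
        (congrArg (fun k : ((EtCoh.bc f).obj V').left ⟶ V.left => k p) (EtCoh.isPullback_bc_map f j).w)).trans
          (Scheme.Hom.comp_apply _ _ _)
    obtain ⟨e, he, hee⟩ : pullback.fst V.hom f q ∈ N := by
      rw [hq]
      exact (pullback.fst V'.hom f p).2
    obtain ⟨Ω', _, _, a, b, hab, ha, hb⟩ := exists_pair (pullback.fst V.hom f) (pullback.fst V.hom f) e q hee
    have h12 : Agree f φ z₁ z₂ a a := (locEq_iff_agree hφ).2 (ha.symm ▸ he)
    have h1 : Agree f φ z₁ z₁ a b := agree_of_compat y₁ a b hab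
    have h2 : Agree f φ z₂ z₂ a b := agree_of_compat y₂ a b hab
    exact (congrArg (LocEq F'.obj z₁ z₂) hb).mp ((locEq_iff_agree hφ).1 (((h1.symm hφ).trans hφ h12).trans hφ h2))
  rw [← germ_map, ← germ_map, ← hv', ← germ_map, ← germ_map]
  exact congrArg (germ Gl η V' v') key

theorem isEffective_of_stages [UniversallyOpen f] (hst : HasStages f φ) : EtDesc.IsEffective f F' φ := by
  haveI : IsIso (ψψ) := by
    refine EtFound.isIso_of_stalks _ fun Ω₀ _ _ ξ => ?_
    let Ω := AlgebraicClosure Ω₀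
    let l : Spec (CommRingCat.of Ω) ⟶ Spec (CommRingCat.of Ω₀) :=
      Spec.map (CommRingCat.ofHom (algebraMap Ω₀ Ω))
    have : IsIso ((Scheme.pointSmallEtale (l ≫ ξ)).sheafFiber.map (ψψ)) :=
      (ConcreteCategory.isIso_iff_bijective _).2
        ⟨psi_stalk_injective_open hφ (l ≫ ξ), psi_stalk_surjective_open hφ hst (l ≫ ξ)⟩
    have := (NatIso.isIso_map_iff (EtFound.stalkExtIso (Type (u + 1)) ξ l) (ψψ)).2 this
    exact (ConcreteCategory.isIso_iff_bijective ((Scheme.pointSmallEtale ξ).sheafFiber.map (ψψ))).1 this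
  refine ⟨Gl, asIso (ψψ), ?_⟩
  rw [canIso_eq]
  exact compat_iso _ _ ((EtDesc.pullSh (pullback.fst f f)).mapIso (asIso ψψ))
    ((EtDesc.pullSh (pullback.snd f f)).mapIso (asIso ψψ)) φ
    (gluePsi_compat f (pullback.fst f f) (pullback.snd f f) (pullback.fst f f ≫ f) rfl pullback.condition.symm φ.hom)

end main

end Groth.Agent.BigSiteLib.DescSec
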