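import Groth.Agent.BigSiteLib.EtDescSec.OpenDescent
import Groth.Agent.H0PBC.Existence
import Groth.Agent.H0PBC.PushInj

/-!
# Effectivity of descent data along proper morphisms
-/

set_option autoImplicit false
set_option linter.style.haveILetI false
set_option linter.unusedSectionVars false

universe u

open CategoryTheory CategoryTheory.Limits AlgebraicGeometry Opposite TopologicalSpace

attribute [-instance] CategoryTheory.catToReflQuiver

namespace Groth.Agent.BigSiteLib.DescSec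

set_option backward.isDefEq.respectTransparency.types false

variable {X' X : Scheme.{u}}

/-- a nonempty closed subset over a geometric point contains one of the distinguished geometric points -/
theorem exists_liftPt_mem {Z : Scheme.{u}} (h : Z ⟶ X) [LocallyOfFiniteType h] {Ω : Type u} [Field Ω] [IsAlgClosed Ω]
    {η : Spec (CommRingCat.of Ω) ⟶ X} {V : X.Etale} (v : (Scheme.pointSmallEtale η).fiber.obj V)
    {C : Set ((EtCoh.bc h).obj V).left} (hC : IsClosed C) (w : ((EtCoh.bc h).obj V).left) (hwC : w ∈ C)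
    (hw : (pullback.fst V.hom h).base w =
      (v.left : Spec (CommRingCat.of Ω) ⟶ V.left).base (default : Spec (CommRingCat.of Ω))) :
    ∃ (ξ : Spec (CommRingCat.of Ω) ⟶ Z) (hξ : ξ ≫ h = η),
      ((EtFound.liftPt h hξ v).left : Spec (CommRingCat.of Ω) ⟶ ((EtCoh.bc h).obj V).left).base
        (default : Spec (CommRingCat.of Ω)) ∈ C := by
  haveI : JacobsonSpace ↥(pullback h η) := LocallyOfFiniteType.jacobsonSpace (pullback.snd h η)
  let vl : Spec (CommRingCat.of Ω) ⟶ V.left := v.left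
  have hvl : vl ≫ V.hom = η := CategoryTheory.Over.w v
  obtain ⟨t, ht, -⟩ := Scheme.Pullback.exists_preimage_pullback (f := pullback.fst V.hom h) (g := vl) w default hw
  let m : pullback (pullback.fst V.hom h) vl ⟶ pullback h η :=
    pullback.lift (pullback.fst _ _ ≫ pullback.snd V.hom h) (pullback.snd _ _) (by
      rw [Category.assoc, ← pullback.condition, ← hvl, pullback.condition_assoc])
  have e : m ≫ EtFound.fibreTo h v = pullback.fst _ _ := by
    refine pullback.hom_ext ?_ ?_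
    · refine (Category.assoc _ _ _).trans ((congrArg (m ≫ ·) (pullback.lift_fst _ _ _)).trans ?_)
      refine (Category.assoc _ _ _).symm.trans ((congrArg (· ≫ vl) (pullback.lift_snd _ _ _)).trans ?_)
      exact pullback.condition.symm
    · refine (Category.assoc _ _ _).trans ((congrArg (m ≫ ·) (pullback.lift_snd _ _ _)).trans ?_)
      exact pullback.lift_fst _ _ _
  obtain ⟨z, hzC, hz⟩ := nonempty_inter_closedPoints (Z := (EtFound.fibreTo h v).base ⁻¹' C)
    ⟨m t, show (EtFound.fibreTo h v) (m t) ∈ C from Set.mem_of_eq_of_mem (((Scheme.Hom.comp_apply _ _ _).symm.trans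
      ((congrArg (fun k : _ ⟶ ((EtCoh.bc h).obj V).left => k.base t) e).trans ht))) hwC⟩
    (hC.preimage (EtFound.fibreTo h v).continuous).isLocallyClosed
  obtain ⟨ξ, hξ, rfl⟩ := H0PBC.exists_fibre_point h z hz
  exact ⟨ξ, hξ, Set.mem_of_eq_of_mem (EtFound.fibreTo_pt h hξ v).symm hzC⟩

variable {f : X' ⟶ X} {F' : EtDesc.Sh X'}
  {φ : (EtDesc.pullSh (pullback.fst f f)).obj F' ≅ (EtDesc.pullSh (pullback.snd f f)).obj F'}

local notation "pb" => IsPullback.of_hasPullback f f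
local notation "Gl" => glueSh f (pullback.fst f f) (pullback.snd f f) (pullback.fst f f ≫ f) rfl pullback.condition.symm φ.hom
local notation "ψψ" => gluePsi f (pullback.fst f f) (pullback.snd f f) (pullback.fst f f ≫ f) rfl pullback.condition.symm φ.hom

variable [IsProper f] (hφ : EtDesc.IsCocycle F' φ) {Ω : Type u} [Field Ω] [IsAlgClosed Ω]
  (ξ₀ : Spec (CommRingCat.of Ω) ⟶ X')

include hφ in
theorem psi_stalk_surjective_proper :
    Function.Surjective ((Scheme.pointSmallEtale ξ₀).presheafFiber.map (ψψ).hom) := by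
  intro c₀
  obtain ⟨W₀, tw, t₀, rfl⟩ := germ_surjective F' ξ₀ c₀
  obtain ⟨w, hw, htw⟩ : ∃ w : Spec (CommRingCat.of Ω) ⟶ W₀.left, w ≫ W₀.hom = ξ₀ ∧ tw.left = w :=
    ⟨tw.left, CategoryTheory.Over.w tw, rfl⟩
  subst hw
  obtain rfl : tw = fpt w := fib_ext htw
  let η := (w ≫ W₀.hom) ≫ f
  let c₀ := germ F' (w ≫ W₀.hom) W₀ (fpt w) t₀
  let c : ∀ ξ : {ξ : Spec (CommRingCat.of Ω) ⟶ X' // ξ ≫ f = η}, St F' ξ.1 := fun ξ =>
    Phi φ.hom pb (w ≫ W₀.hom) ξ.1 ξ.2.symm c₀
  have hc : ∀ ξ₁ ξ₂ : {ξ : Spec (CommRingCat.of Ω) ⟶ X' // ξ ≫ f = η},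
      Phi φ.hom pb ξ₁.1 ξ₂.1 (ξ₁.2.trans ξ₂.2.symm) (c ξ₁) = c ξ₂ := fun ξ₁ ξ₂ => Phi_trans f φ hφ _ _ _ _ _ c₀
  obtain ⟨p, hp⟩ := H0PBC.exists_preimage_proper (A := Type (u + 1)) f (η := η) F' c (fun ξ => by
    obtain ⟨U, tU, s, hs⟩ := germ_surjective F' ξ.1 (c ξ)
    let a₀ : Spec (CommRingCat.of Ω) ⟶ U.left := tU.left
    have ha₀ : a₀ ≫ U.hom = ξ.1 := CategoryTheory.Over.w tU
    let r : pullback U.hom (pullback.fst f η) ⟶ dObj f W₀ U :=
      pullback.lift (pullback.snd _ _ ≫ pullback.snd f η ≫ w) (pullback.fst _ _) (by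
        rw [← Category.assoc (pullback.fst U.hom (pullback.fst f η)), pullback.condition]
        simp only [Category.assoc]
        rw [pullback.condition (f := f) (g := η)]
        simp only [η, Category.assoc])
    have hr : ∀ (ξ' : {ξ : Spec (CommRingCat.of Ω) ⟶ X' // ξ ≫ f = η}) (a : Spec (CommRingCat.of Ω) ⟶ U.left)
        (ha : a ≫ U.hom = ξ'.1),
        pullback.lift a (H0PBC.fibreSect f ξ') (ha.trans (pullback.lift_fst _ _ _).symm) default ∈
            r ⁻¹' agreeSet f φ t₀ s ↔ H0PBC.germ F' s ξ'.1 a ha = c ξ' := by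
      rintro ⟨ξ', hξ'⟩ a ha
      obtain rfl : a ≫ U.hom = ξ' := ha
      generalize hx : (pullback.lift a (H0PBC.fibreSect f ⟨a ≫ U.hom, hξ'⟩) (pullback.lift_fst _ _ _).symm :
        Spec (CommRingCat.of Ω) ⟶ pullback U.hom (pullback.fst f η)) = x
      have hx₁ : x ≫ pullback.fst _ _ = a := hx ▸ pullback.lift_fst _ _ _
      have hx₂ : x ≫ pullback.snd _ _ ≫ pullback.snd f η = 𝟙 _ := by
        rw [← hx, pullback.lift_snd_assoc]
        exact pullback.lift_snd _ _ _
      have e₁ : (x ≫ r) ≫ pullback.fst _ _ = w := by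
        rw [Category.assoc, pullback.lift_fst, ← Category.assoc (pullback.snd U.hom _), ← Category.assoc x, hx₂,
          Category.id_comp]
      have e₂ : (x ≫ r) ≫ pullback.snd _ _ = a := by rw [Category.assoc, pullback.lift_snd, hx₁]
      have e := agree_iff_mem (σ := t₀) (τ := s) (f := f) (φ := φ) (x ≫ r)
      rw [e₁, e₂, Scheme.Hom.comp_apply] at e
      exact e.symm.trans ((agree_iff hξ'.symm).trans eq_comm)
    exact ⟨U, a₀, ha₀, s, ⟨_, (isOpen_agreeSet f φ t₀ s).preimage r.continuous⟩, (hr ξ a₀ ha₀).2 hs,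
      fun ξ' a ha h => (hr ξ' a ha).1 h⟩)
  obtain ⟨V, v, s, hs⟩ := germ_surjective ((EtDesc.pushSh f).obj F') η p
  have hgerm : ∀ ξ : {ξ : Spec (CommRingCat.of Ω) ⟶ X' // ξ ≫ f = η},
      germ F' ξ.1 ((EtCoh.bc f).obj V) (EtFound.liftPt f ξ.2 v) s = c ξ := fun ξ => by
    rw [← hp ξ, ← hs]
    exact (EtFound.pushStalkAt_germ_apply f ξ.2 F' v s).symm
  let L := {z : ((EtCoh.bc (pullback.fst f f ≫ f)).obj V).left |
    LocEq ((EtDesc.pullSh (pullback.snd f f)).obj F').obj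
      (lhs f (pullback.fst f f) (pullback.snd f f) (pullback.fst f f ≫ f) rfl φ.hom V s)
      (side (pullback.fst f f ≫ f) (pullback.snd f f) f pullback.condition.symm F' V s) z}
  haveI : IsProper (pullback.fst f f) := MorphismProperty.pullback_fst f f inferInstance
  haveI : IsProper (pullback.fst f f ≫ f) := inferInstance
  haveI : IsProper (pullback.fst V.hom (pullback.fst f f ≫ f)) := MorphismProperty.pullback_fst _ _ inferInstance
  let N : V.left.Opens := ⟨((pullback.fst V.hom (pullback.fst f f ≫ f)) '' Lᶜ)ᶜ,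
    ((Scheme.Hom.isClosedMap (pullback.fst V.hom (pullback.fst f f ≫ f))) _ (isOpen_locEq _ _).isClosed_compl).isOpen_compl⟩
  have hv : (v.left : Spec (CommRingCat.of Ω) ⟶ V.left).base (default : Spec (CommRingCat.of Ω)) ∈ N := by
    rintro ⟨z, hz, hzv⟩
    obtain ⟨ζ, hζ, hζC⟩ := exists_liftPt_mem (pullback.fst f f ≫ f) v (C := Lᶜ) (isOpen_locEq _ _).isClosed_compl z hz hzv
    have h₁ : (ζ ≫ pullback.fst f f) ≫ f = η := (Category.assoc _ _ _).trans hζ
    have h₂ : (ζ ≫ pullback.snd f f) ≫ f = η := by rw [Category.assoc, ← pullback.condition]; exact hζ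
    refine hζC (locEq_of_germ ζ (EtFound.liftPt _ hζ v) ?_ _ rfl)
    refine (germ_sides_iff f (pullback.fst f f) (pullback.snd f f) _ rfl pullback.condition.symm φ.hom pb h₁ h₂ ζ rfl rfl hζ v s).2 ?_
    rw [hgerm ⟨_, h₁⟩, hgerm ⟨_, h₂⟩]
    exact hc ⟨_, h₁⟩ ⟨_, h₂⟩
  let V' := EtFound.restrictEtale V N
  let j := EtFound.restrictEtaleHom V N
  obtain ⟨v', hv', -⟩ := EtFound.exists_lift_point j v ⟨_, hv⟩ rfl
  let x : ToType ((Gl).obj.obj (op V')) := ⟨F'.obj.map ((EtCoh.bc f).map j).op s, eq_of_locEq _ fun z => by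
    rw [lhs_map, side_map]
    refine LocEq.map _ (Classical.byContradiction fun hz => ?_)
    exact (pr (pullback.fst f f ≫ f) V' z).2 ⟨_, hz, pr_map (pullback.fst f f ≫ f) j z⟩⟩
  refine ⟨germ ((EtDesc.pullSh f).obj Gl) (w ≫ W₀.hom) ((EtCoh.bc f).obj V') (EtFound.liftPt f (η := η) rfl v') (up f Gl V' x), ?_⟩
  rw [psi_germ]
  show germ F' (w ≫ W₀.hom) _ (EtFound.liftPt f (η := η) rfl v') (F'.obj.map ((EtCoh.bc f).map j).op s) = c₀
  rw [germ_map, EtFound.liftPt_map, hv', hgerm ⟨w ≫ W₀.hom, rfl⟩]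
  exact Phi_self f φ hφ (w ≫ W₀.hom) c₀

theorem psi_stalk_injective_proper :
    Function.Injective ((Scheme.pointSmallEtale ξ₀).presheafFiber.map (ψψ).hom) := by
  intro e₁ e₂ he
  let η := ξ₀ ≫ f
  obtain ⟨V₁, v₁, x₁, h₁, k₁⟩ := exists_up_germ f (η := η) rfl Gl e₁
  obtain ⟨V₂, v₂, x₂, h₂, k₂⟩ := exists_up_germ f (η := η) rfl Gl e₂
  rw [h₁, h₂, psi_germ, psi_germ] at he
  refine (stI f ξ₀ Gl).injective ?_
  rw [tr_rfl] at k₁ k₂
  rw [k₁, k₂]
  let ι := glueι f (pullback.fst f f) (pullback.snd f f) (pullback.fst f f ≫ f) rfl pullback.condition.symm φ.hom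
  haveI : Mono ι := (sheafToPresheaf _ _).mono_of_mono_map (inferInstanceAs (Mono (Subfunctor.ι _)))
  refine germ_injective ι (injective_app_of_mono ι) η
    (H0PBC.pushStalkAt_injective_proper (A := Type (u + 1)) f F' (funext fun ξ => ?_))
  have key : ∀ {V : X.Etale} (v : (Scheme.pointSmallEtale η).fiber.obj V) (x : ToType ((Gl).obj.obj (op V))),
      (EtFound.pushStalkAt f ξ.2).app F' ((Scheme.pointSmallEtale η).presheafFiber.map ι.hom (germ Gl η V v x)) =
        Phi φ.hom pb ξ₀ ξ.1 ξ.2.symm (germ F' ξ₀ _ (EtFound.liftPt f (η := η) rfl v) (ι.hom.app (op V) x)) := fun {V} v x => by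
    refine (pushStalkAt_map_germ f ξ.2 F' ι v x).trans ?_
    let hζ₁ := (pb).lift_fst ξ₀ ξ.1 ξ.2.symm
    let hζ₂ := (pb).lift_snd ξ₀ ξ.1 ξ.2.symm
    have hζ : (pb).lift ξ₀ ξ.1 ξ.2.symm ≫ pullback.fst f f ≫ f = η := by rw [← Category.assoc, hζ₁]
    refine ((germ_sides_iff f (pullback.fst f f) (pullback.snd f f) _ rfl pullback.condition.symm φ.hom pb rfl ξ.2 _ hζ₁ hζ₂ hζ v _).1 ?_).symm
    exact congrArg _ x.2
  exact (key v₁ x₁).trans ((congrArg _ he).trans (key v₂ x₂).symm)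

omit ξ₀ in
include hφ in
theorem isEffective_of_proper : EtDesc.IsEffective f F' φ := by
  haveI : IsIso (ψψ) := by
    refine EtFound.isIso_of_stalks _ fun Ω₀ _ _ ξ => ?_
    let Ω := AlgebraicClosure Ω₀
    let l : Spec (CommRingCat.of Ω) ⟶ Spec (CommRingCat.of Ω₀) :=
      Spec.map (CommRingCat.ofHom (algebraMap Ω₀ Ω))
    have : IsIso ((Scheme.pointSmallEtale (l ≫ ξ)).sheafFiber.map (ψψ)) :=
      (ConcreteCategory.isIso_iff_bijective _).2
        ⟨psi_stalk_injective_proper (l ≫ ξ), psi_stalk_surjective_proper hφ (l ≫ ξ)⟩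
    have := (NatIso.isIso_map_iff (EtFound.stalkExtIso (Type (u + 1)) ξ l) (ψψ)).2 this
    exact (ConcreteCategory.isIso_iff_bijective ((Scheme.pointSmallEtale ξ).sheafFiber.map (ψψ))).1 this
  refine ⟨Gl, asIso (ψψ), ?_⟩
  rw [canIso_eq]
  exact compat_iso _ _ ((EtDesc.pullSh (pullback.fst f f)).mapIso (asIso ψψ))
    ((EtDesc.pullSh (pullback.snd f f)).mapIso (asIso ψψ)) φ
    (gluePsi_compat f (pullback.fst f f) (pullback.snd f f) (pullback.fst f f ≫ f) rfl pullback.condition.symm φ.hom)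

end Groth.Agent.BigSiteLib.DescSec
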